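import Cfsg.Agent.H948.EPX.Om7E
import Cfsg.Agent.S5814
import Cfsg.Agent.H856.Tz6
import Cfsg.Agent.H679.EPX.Resid
import Cfsg.Agent.H922.OmKill
import Cfsg.Agent.Fischer.Y322Iso
import Cfsg.Agent.H995.CopCoprime

/-!
# S5745, row `Ω₇(3)`: elements of order five are not self-centralising in maximal subgroups (helper948)
-/

set_option autoImplicit false
set_option linter.unusedSectionVars false
set_option maxRecDepth 100000

namespace Cfsg.Agent.H948.EPX.Om7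

open QuadraticMap Matrix
open Cfsg.Agent.ClassicalGeometry.Reflection Cfsg.Agent.ClassicalGeometry.SpinorSign
open Cfsg.Agent.H932.Spinor

abbrev GLV := Matrix.GeneralLinearGroup I R

theorem card_om : Nat.card (Cfsg.Geo.omegaGL q0) = 4585351680 := by
  rw [Cfsg.Agent.H922.OmGL.card_omegaGL_odd two_ne le_rfl]
  exact Cfsg.Agent.Fischer.Y322Iso.card_POmega

theorem isPrimeCard : (Fintype.card R).Prime := by
  rw [ZMod.card]; norm_num

theorem iso_mem {z : Iso} (h1 : dt z = 1) (h2 : spinorSign (⇑Q) 1 z = 1) : (z : GLV) ∈ Cfsg.Geo.omegaGL q0 :=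
  (mem_om z).2 ⟨h1, h2⟩

theorem not_zpow {z : Iso} (h : z ∉ Subgroup.zpowers Y) : (z : GLV) ∉ Subgroup.zpowers (Y : GLV) := by
  rintro ⟨n, hn⟩
  exact h ⟨n, Subtype.ext hn⟩

theorem exists_iso {g : GLV} (hg : g ∈ Cfsg.Geo.omegaGL q0) : ∃ k : Iso, (k : GLV) = g := by
  rw [← Qq] at hg
  obtain ⟨x, -, hx⟩ := hg
  exact ⟨x, hx⟩

theorem det_om {g : GLV} (hg : g ∈ Cfsg.Geo.omegaGL q0) : (g : Matrix I I R).det = 1 := by
  obtain ⟨k, rfl⟩ := exists_iso hg
  exact ((mem_om k).1 hg).1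

theorem scal {g : GLV} (hg : g ∈ Cfsg.Geo.omegaGL q0) (hs : g ∈ Cfsg.Geo.scalars I R) : g = 1 := by
  obtain ⟨c, hc⟩ := (Cfsg.Geo.mem_scalars_iff g).1 hs
  have h1 := det_om hg
  rw [hc, Matrix.det_smul, Matrix.det_one, mul_one] at h1
  have hcard : Fintype.card I = 7 := by decide
  rw [hcard] at h1
  have key : ∀ s : R, s ^ 7 = 1 → s = 1 := by decide
  have h2 := key _ h1
  apply Units.ext
  rw [hc, h2, one_smul, Units.val_one]

theorem orderY : orderOf (Y : GLV) = 5 := by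
  have : Fact (Nat.Prime 5) := ⟨by norm_num⟩
  apply orderOf_eq_prime
  · have := congrArg (fun k : Iso => (k : GLV)) Y5
    exact this
  · intro h
    have h1 : Y = 1 := Subtype.ext h
    have h2 := Y_F0
    rw [h1, ac_one] at h2
    revert h2
    decide

theorem maxi (hK : Cfsg.Agent.H995.CopEngine.AllKnown.{0}) {M : Subgroup GLV}
    (hM : Cfsg.Geo.IsMaximalIn (Cfsg.Geo.omegaGL q0) M) (hY : (Y : GLV) ∈ M) :
    ∃ z ∈ M, z * (Y : GLV) = (Y : GLV) * z ∧ z ∉ Subgroup.zpowers (Y : GLV) := by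
  have hodd : Odd (Fintype.card R) := by rw [ZMod.card]; decide
  have hsub : ∀ W : Submodule R V, M = Cfsg.Geo.subspaceStabilizer W ⊓ Cfsg.Geo.omegaGL q0 →
      ∃ z ∈ M, z * (Y : GLV) = (Y : GLV) * z ∧ z ∉ Subgroup.zpowers (Y : GLV) := by
    intro W hW
    have hYW : (Y : GLV) ∈ Cfsg.Geo.subspaceStabilizer W := by
      rw [hW] at hY
      exact hY.1
    obtain ⟨z, h1, h2, h3, h4, h5⟩ := subspace W (fun w hw => (hYW w).1 hw)
    refine ⟨z, ?_, congrArg (fun k : Iso => (k : GLV)) h3, not_zpow h4⟩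
    rw [hW]
    exact ⟨h5, iso_mem h1 h2⟩
  rcases Cfsg.Agent.S5814.result hodd M hM with ⟨W, -, -, hW⟩ | ⟨W, -, -, -, -, hW⟩ | ⟨-, D, hD, hMD⟩ |
    ⟨F₀, r, -, hr, hF, -, -⟩ | hS
  · exact hsub W hW
  · exact hsub W hW
  · have hYD : (Y : GLV) ∈ Cfsg.Geo.decompositionStabilizer D := by
      rw [hMD] at hY
      exact hY.1
    obtain ⟨z, h1, h2, h3, h4, h5⟩ := decomp hD hYD
    refine ⟨z, ?_, congrArg (fun k : Iso => (k : GLV)) h3, not_zpow h4⟩
    rw [hMD]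
    exact ⟨h5, iso_mem h1 h2⟩
  · exfalso
    rw [ZMod.card] at hF
    have h2 := hr.two_le
    rcases Nat.lt_or_ge (Nat.card F₀) 2 with h | h
    · have h3 : Nat.card F₀ ^ r ≤ 1 := by
        calc Nat.card F₀ ^ r ≤ 1 ^ r := Nat.pow_le_pow_left (by omega) r
          _ = 1 := one_pow r
      omega
    · have h3 : 2 ^ 2 ≤ Nat.card F₀ ^ r := by
        calc 2 ^ 2 ≤ 2 ^ r := Nat.pow_le_pow_right (by norm_num) h2
          _ ≤ Nat.card F₀ ^ r := Nat.pow_le_pow_left h r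
      omega
  · obtain ⟨P, hP, hC⟩ := Cfsg.Agent.H856.Tz.final (fun T _ _ _ => hK T) hodd M hM hS
    have hle : M ≤ Cfsg.Geo.omegaGL q0 := hM.1.le
    have hbot : (Cfsg.Geo.scalars I R).subgroupOf P = ⊥ := by
      rw [eq_bot_iff]
      intro x hx
      rw [Subgroup.mem_subgroupOf] at hx
      rw [Subgroup.mem_bot]
      exact Subtype.ext (scal (hle (hP.le x.2)) hx)
    let e1 : (P ⧸ (Cfsg.Geo.scalars I R).subgroupOf P) ≃* P :=
      (QuotientGroup.quotientMulEquivOfEq hbot).trans QuotientGroup.quotientBot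
    let P' : Subgroup M := P.subgroupOf M
    have hP' : P'.Normal := by
      constructor
      intro x hx g
      exact hP.normal g g.2 x hx
    let e2 : P' ≃* P := Subgroup.subgroupOfEquivOfLe hP.le
    have h25 : ¬ 25 ∣ Nat.card M := by
      intro h
      have h1 : Nat.card M ∣ Nat.card (Cfsg.Geo.omegaGL q0) := Subgroup.card_dvd_of_le hle
      rw [card_om] at h1
      have := h.trans h1
      revert this
      norm_num
    have hyo : orderOf (⟨(Y : GLV), hY⟩ : M) = 5 := by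
      rw [← orderY]
      exact Subgroup.orderOf_mk _ _
    have hL : Nonempty (P' ≃* alternatingGroup (Fin 9)) ∨ Nonempty (P' ≃* Cfsg.PSp 3 (ZMod 2)) ∨
        Nonempty (P' ≃* Cfsg.Lie.G2 (ZMod 3)) := by
      rcases hC with ⟨⟨f⟩, -⟩ | ⟨⟨f⟩, -⟩ | f
      · exact Or.inl ⟨e2.trans (e1.symm.trans f)⟩
      · exact Or.inr (Or.inl ⟨e2.trans (e1.symm.trans f)⟩)
      · obtain ⟨f⟩ := f
        exact Or.inr (Or.inr ⟨e2.trans (e1.symm.trans f)⟩)
    obtain ⟨z, h1, h2⟩ := Cfsg.Agent.H679.EPX.resid P' h25 ⟨(Y : GLV), hY⟩ hyo hL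
    refine ⟨z, z.2, congrArg (fun k : M => (k : GLV)) h1, ?_⟩
    rintro ⟨n, hn⟩
    exact h2 ⟨n, Subtype.ext hn⟩

/-- the same for `Ω` itself -/
theorem maxi0 : ∃ z ∈ Cfsg.Geo.omegaGL q0, z * (Y : GLV) = (Y : GLV) * z ∧ z ∉ Subgroup.zpowers (Y : GLV) := by
  obtain ⟨z, h1, h2, h3, h4, -⟩ := subspace ⊥ (fun w hw => by
    rw [Submodule.mem_bot] at hw ⊢
    rw [hw, ac_zero])
  exact ⟨z, iso_mem h1 h2, congrArg (fun k : Iso => (k : GLV)) h3, not_zpow h4⟩

end Cfsg.Agent.H948.EPX.Om7
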