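import Cfsg.Agent.H948.EPX.Abs
import Cfsg.Agent.H948.EPX.Om7F
import Cfsg.Agent.H679.EPX.EqN
import Cfsg.Agent.H438.EPX.AEight
import Cfsg.Agent.H209.EPX.Defs
import Cfsg.Agent.UGT.U2.Rec.Congr
import Cfsg.Agent.S2227

/-!
# S5745: the row `Ω₇(3)` in `²E₆(2)` (helper948)
-/

set_option autoImplicit false
set_option linter.unusedSectionVars false

namespace Cfsg.Agent.H948.EPX

open Cfsg.Agent.H284 Cfsg.Agent.H209.EPX Cfsg.Agent.H948.EPX.Om7

/-- elements of order five with centraliser `C₅ × A₈` and a subgroup acting faithfully on four points -/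
theorem exists_x {G₀ : Type*} [Group G₀] [Finite G₀] (y : G₀) (hy : orderOf y = 5)
    (ι : Subgroup.centralizer ({y} : Set G₀) ≃* Multiplicative (ZMod 5) × alternatingGroup (Fin 8))
    {C : Type*} [Group C] [Finite C] (j : C →* G₀) (hj : ∀ k, j k * y = y * j k) (ψ : C →* Equiv.Perm (Fin 4))
    (hψ : ∀ k, ψ k = 1 ↔ j k ∈ Subgroup.zpowers y) :
    ∃ x : G₀, x * y = y * x ∧ ∀ k k' : C, x⁻¹ * j k * x = j k' → j k ∈ Subgroup.zpowers y := by
  let f0 : Subgroup.centralizer ({y} : Set G₀) →* alternatingGroup (Fin 8) :=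
    (MonoidHom.snd _ _).comp ι.toMonoidHom
  have hmem : ∀ g : G₀, g ∈ Subgroup.centralizer ({y} : Set G₀) ↔ g * y = y * g := by
    intro g
    rw [Subgroup.mem_centralizer_iff]
    constructor
    · intro h
      exact (h y rfl).symm
    · rintro h _ rfl
      exact h.symm
  have hyC : y ∈ Subgroup.centralizer ({y} : Set G₀) := (hmem y).2 rfl
  -- the kernel of `f0`
  have hy1 : f0 ⟨y, hyC⟩ = 1 := by
    have h1 : f0 ⟨y, hyC⟩ ∈ Subgroup.center (alternatingGroup (Fin 8)) := by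
      rw [Subgroup.mem_center_iff]
      intro b
      have h2 : (⟨y, hyC⟩ : Subgroup.centralizer ({y} : Set G₀)) * ι.symm (1, b) = ι.symm (1, b) * ⟨y, hyC⟩ :=
        Subtype.ext ((hmem _).1 (ι.symm (1, b)).2).symm
      have h3 := congrArg f0 h2
      rw [map_mul, map_mul] at h3
      have h4 : f0 (ι.symm (1, b)) = b := by
        change (ι (ι.symm (1, b))).2 = b
        rw [MulEquiv.apply_symm_apply]
      rw [h4] at h3
      exact h3.symm
    rw [alternatingGroup.center_eq_bot (by simp), Subgroup.mem_bot] at h1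
    exact h1
  have hker : ∀ g : Subgroup.centralizer ({y} : Set G₀), f0 g = 1 ↔ (g : G₀) ∈ Subgroup.zpowers y := by
    intro g
    constructor
    · intro hg
      have hp : Fact (Nat.Prime 5) := ⟨by norm_num⟩
      have h1 : ι ⟨y, hyC⟩ = ((ι ⟨y, hyC⟩).1, 1) := Prod.ext rfl hy1
      have h2 : ι g = ((ι g).1, 1) := Prod.ext rfl hg
      have h3 : (ι ⟨y, hyC⟩).1 ≠ 1 := by
        intro h
        rw [h] at h1
        have h4 : (⟨y, hyC⟩ : Subgroup.centralizer ({y} : Set G₀)) = 1 := ι.injective (by rw [h1, map_one]; rfl)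
        have h5 : y = 1 := congrArg Subtype.val h4
        rw [h5, orderOf_one] at hy
        exact absurd hy (by norm_num)
      have hc : Nat.card (Multiplicative (ZMod 5)) = 5 := by simp
      have h4 : (ι g).1 ∈ Subgroup.zpowers (ι ⟨y, hyC⟩).1 := mem_zpowers_of_prime_card hc h3
      obtain ⟨n, hn⟩ := h4
      refine ⟨n, ?_⟩
      have h5 : (⟨y, hyC⟩ : Subgroup.centralizer ({y} : Set G₀)) ^ n = g := by
        apply ι.injective
        rw [map_zpow, h1, h2]
        apply Prod.ext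
        · exact hn
        · change (1 : alternatingGroup (Fin 8)) ^ n = 1
          exact one_zpow n
      exact congrArg Subtype.val h5
    · rintro ⟨n, hn⟩
      have h5 : g = (⟨y, hyC⟩ : Subgroup.centralizer ({y} : Set G₀)) ^ n := Subtype.ext hn.symm
      rw [h5, map_zpow, hy1, one_zpow]
  let f : C →* alternatingGroup (Fin 8) := f0.comp (j.codRestrict _ (fun k => (hmem _).2 (hj k)))
  have hf : ∀ k, f k = f0 ⟨j k, (hmem _).2 (hj k)⟩ := fun k => rfl
  obtain ⟨c, hc⟩ := Cfsg.Agent.H438.EPX.AEight.exists_conj f ψ (fun k => by rw [hψ, hf, hker])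
  have hx : f0 (ι.symm (1, c)) = c := by
    change (ι (ι.symm (1, c))).2 = c
    rw [MulEquiv.apply_symm_apply]
  refine ⟨(ι.symm (1, c) : G₀), (hmem _).1 (ι.symm (1, c)).2, fun k k' hkk => ?_⟩
  have h1 : (ι.symm (1, c))⁻¹ * ⟨j k, (hmem _).2 (hj k)⟩ * ι.symm (1, c) = ⟨j k', (hmem _).2 (hj k')⟩ :=
    Subtype.ext hkk
  have h2 := congrArg f0 h1
  rw [map_mul, map_mul, map_inv, hx, ← hf, ← hf] at h2
  have h3 : f k = c * f k' * c⁻¹ := by rw [← h2]; group
  have h4 := hc k k' h3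
  rwa [hf, hker] at h4

/-- **The row.** -/
theorem row_o73 (hK : Cfsg.Agent.H995.CopEngine.AllKnown.{0}) {K : Type*} [Field K] [Fintype K]
    (hK4 : Fintype.card K = 4) {G : Type*} [Group G] [Finite G] (eG : G ≃* ↥(Cfsg.Lie.twistedE6 K 2))
    {H N : Subgroup G} {T : Type} [Group T] {e : N ≃* (Fin 1 → T)} (h : EPS H N e)
    {F : Type*} [Field F] [Fintype F] (hF : Fintype.card F = 3) (eT : T ≃* Cfsg.POmega F (Cfsg.quadFormOdd 3 F)) :
    False := by
  obtain ⟨eF⟩ := Cfsg.Agent.UGT.U2.Rec.Congr.nonempty_POmegaOdd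
    (FiniteField.ringEquivOfCardEq (K := F) (K' := ZMod 3) (by rw [hF, ZMod.card])) 3
  let e1 : N ≃* Cfsg.POmega (ZMod 3) (Cfsg.quadFormOdd 3 (ZMod 3)) :=
    (e.trans (MulEquiv.funUnique (Fin 1) T)).trans (eT.trans eF)
  have hHN : H = N := Cfsg.Agent.H679.EPX.eqN hK4 eG h.le h.nrm h.cent e1
  obtain ⟨e0⟩ := Cfsg.Agent.H679.EPX.exists_equiv
  let e2 : H ≃* Cfsg.Omega (ZMod 3) (Cfsg.quadFormOdd 3 (ZMod 3)) :=
    (MulEquiv.subgroupCongr hHN).trans (e1.trans e0)
  let ρ : H →* GLV := (Cfsg.isometryGroup R q0).subtype.comp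
    ((Cfsg.Omega (ZMod 3) (Cfsg.quadFormOdd 3 (ZMod 3))).subtype.comp e2.toMonoidHom)
  have hρ : Function.Injective ρ :=
    (Subgroup.subtype_injective _).comp ((Subgroup.subtype_injective _).comp e2.injective)
  have hr : ρ.range = Cfsg.Geo.omegaGL q0 := by
    ext g
    constructor
    · rintro ⟨t, rfl⟩
      exact ⟨(e2 t : Cfsg.Omega (ZMod 3) (Cfsg.quadFormOdd 3 (ZMod 3))), (e2 t).2, rfl⟩
    · rintro ⟨t, ht, rfl⟩
      refine ⟨e2.symm ⟨t, ht⟩, ?_⟩
      change ((e2 (e2.symm ⟨t, ht⟩) : Cfsg.isometryGroup R q0) : GLV) = (t : GLV)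
      rw [MulEquiv.apply_symm_apply]
  have hYm : (Y : GLV) ∈ Cfsg.Geo.omegaGL q0 := iso_mem dt_Y spin_Y
  have hlift : ∀ a ∈ Cfsg.Geo.omegaGL q0, ∃ t : H, ρ t = a := by
    intro a ha
    rw [← hr] at ha
    exact ha
  obtain ⟨y, hy⟩ := hlift _ hYm
  -- the centraliser
  let ρ' : H ≃* Cfsg.Geo.omegaGL q0 := (MonoidHom.ofInjective hρ).trans (MulEquiv.subgroupCongr hr)
  have hρ' : ∀ t, (ρ' t : GLV) = ρ t := fun t => rfl
  let jO : CY →* Cfsg.Geo.omegaGL q0 :=
    { toFun := fun k => ⟨((k : Iso) : GLV), iso_mem k.2.2.1 k.2.2.2⟩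
      map_one' := rfl
      map_mul' := fun a b => rfl }
  let jH : CY →* H := ρ'.symm.toMonoidHom.comp jO
  have hjH : ∀ k : CY, ρ (jH k) = ((k : Iso) : GLV) := by
    intro k
    rw [← hρ']
    change ((ρ' (ρ'.symm (jO k)) : Cfsg.Geo.omegaGL q0) : GLV) = _
    rw [MulEquiv.apply_symm_apply]
    rfl
  have hjy : ∀ k : CY, jH k * y = y * jH k := by
    intro k
    apply hρ
    rw [map_mul, map_mul, hjH, hy]
    exact congrArg (fun k : Iso => (k : GLV)) k.2.1
  let jG : CY →* ↥(Cfsg.Lie.twistedE6 K 2) := eG.toMonoidHom.comp (H.subtype.comp jH)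
  have hjG : ∀ k, jG k = eG (jH k : G) := fun k => rfl
  have hy5 : orderOf (eG (y : G)) = 5 := by
    rw [MulEquiv.orderOf_eq, Subgroup.orderOf_coe, ← orderOf_injective ρ hρ, hy, orderY]
  obtain ⟨ι⟩ := (Cfsg.Agent.S2227.result hK4).2 (eG (y : G)) hy5
  have hz : ∀ k : CY, jG k ∈ Subgroup.zpowers (eG (y : G)) ↔ (k : Iso) ∈ Subgroup.zpowers Y := by
    intro k
    constructor
    · rintro ⟨n, hn⟩
      refine ⟨n, ?_⟩
      have h1 : (y : G) ^ n = (jH k : G) := by
        apply eG.injective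
        rw [map_zpow]
        exact hn
      have h2 : y ^ n = jH k := Subtype.ext (by rw [Subgroup.coe_zpow]; exact h1)
      apply Subtype.ext
      change ((Y ^ n : Iso) : GLV) = ((k : Iso) : GLV)
      rw [← hjH, ← h2, map_zpow, hy]
      rfl
    · rintro ⟨n, hn⟩
      refine ⟨n, ?_⟩
      have h2 : y ^ n = jH k := by
        apply hρ
        rw [map_zpow, hy, hjH, ← hn]
        rfl
      change (eG (y : G)) ^ n = _
      rw [hjG, ← h2, Subgroup.coe_zpow, map_zpow]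
  obtain ⟨x, hx1, hx2⟩ := exists_x (eG (y : G)) hy5 ι jG (fun k => by
    rw [hjG, ← map_mul, ← map_mul]
    congr 1
    exact congrArg Subtype.val (hjy k)) psi (fun k => by rw [psi_eq_one, hz])
  refine abs_step (x := eG.symm x) h.ep.two ρ hρ hr hy (fun M hM hYM => maxi hK hM hYM) maxi0 ?_ ?_
  · apply eG.injective
    rw [map_mul, map_mul, MulEquiv.apply_symm_apply, hx1]
  · intro g hg hg' hgy
    -- both `g` and its conjugate come from `CY`
    have hcy : ∀ t : H, (t : G) * (y : G) = (y : G) * (t : G) → ∃ k : CY, jH k = t := by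
      intro t ht
      obtain ⟨k, hk⟩ := exists_iso (g := ρ t) (by rw [← hr]; exact ⟨t, rfl⟩)
      have h1 : t * y = y * t := Subtype.ext ht
      have h2 : k * Y = Y * k := by
        apply Subtype.ext
        change (k : GLV) * (Y : GLV) = (Y : GLV) * (k : GLV)
        rw [hk, ← hy, ← map_mul, ← map_mul, h1]
      have h3 := (mem_om k).1 (by rw [hk, ← hr]; exact ⟨t, rfl⟩)
      refine ⟨⟨k, h2, h3.1, h3.2⟩, ?_⟩
      apply hρ
      rw [hjH]
      exact hk
    obtain ⟨k, hk⟩ := hcy ⟨g, hg⟩ hgy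
    have hxs : eG.symm x * (y : G) = (y : G) * eG.symm x := by
      apply eG.injective
      rw [map_mul, map_mul, MulEquiv.apply_symm_apply, hx1]
    have hgy' : ((eG.symm x)⁻¹ * g * eG.symm x) * (y : G) = (y : G) * ((eG.symm x)⁻¹ * g * eG.symm x) := by
      have h1 : (eG.symm x)⁻¹ * (y : G) = (y : G) * (eG.symm x)⁻¹ := by
        rw [inv_mul_eq_iff_eq_mul, ← mul_assoc, eq_mul_inv_iff_mul_eq, hxs]
      calc ((eG.symm x)⁻¹ * g * eG.symm x) * (y : G) = (eG.symm x)⁻¹ * g * (eG.symm x * (y : G)) := by group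
        _ = (eG.symm x)⁻¹ * (g * (y : G)) * eG.symm x := by rw [hxs]; group
        _ = ((eG.symm x)⁻¹ * (y : G)) * g * eG.symm x := by rw [hgy]; group
        _ = (y : G) * ((eG.symm x)⁻¹ * g * eG.symm x) := by rw [h1]; group
    obtain ⟨k', hk'⟩ := hcy ⟨_, hg'⟩ hgy'
    have h4 : x⁻¹ * jG k * x = jG k' := by
      rw [hjG, hjG, hk, hk']
      change x⁻¹ * eG g * x = eG ((eG.symm x)⁻¹ * g * eG.symm x)
      rw [map_mul, map_mul, map_inv, MulEquiv.apply_symm_apply]
    obtain ⟨n, hn⟩ := hx2 k k' h4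
    refine ⟨n, ?_⟩
    apply eG.injective
    change eG ((y : G) ^ n) = eG g
    rw [map_zpow]
    rw [hjG, hk] at hn
    exact hn

end Cfsg.Agent.H948.EPX
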