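import Cfsg.Agent.H948.EPX.RowTits
import Cfsg.Agent.H686.CB.Cls

/-!
# S5745, `T` the Tits group, `k = 1`, in `E₆(2)` and `²E₆(2)`: class sizes of elements of order 3 (and 5) as hypotheses
(helper948)
-/

set_option autoImplicit false

namespace Cfsg.Agent.H948.EPX

open Subgroup Cfsg Cfsg.Lie Cfsg.Agent.H209.EPX Cfsg.Agent.H284 Cfsg.Agent.H742.EX Cfsg.Agent.H686.CB

/-- `²E₆(2)` : only `c₃` is needed (`helper972`). -/
theorem te6_tits {K : Type} [Field K] [Fintype K] (hK : Fintype.card K = 4)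
    (h3 : ∀ x : ↥(twistedE6 K 2), orderOf x = 3 → 3 * 2 ^ 36 ≤ cG x) {H N : Subgroup ↥(twistedE6 K 2)} {T : Type}
    [Group T] {e : N ≃* (Fin 1 → T)} (h : EPS H N e) (hT : IsoTits T) : False := by
  have hfin : Finite ↥(twistedE6 K 2) := Nat.finite_of_card_ne_zero (by rw [card_te6 hK]; norm_num)
  refine tits_kill h hT h3 (fun x hx => le_trans (by norm_num) (te6_c5 hK x hx))
    (fun x hx => le_trans (by norm_num) (te6_c13 hK x hx)) ?_
  rw [card_te6 hK]
  norm_num

/-- `E₆(2)` : `c₃` and `c₅` are needed (`helper38`). -/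
theorem e6_tits {F : Type} [Field F] [Fintype F] (hF : Fintype.card F = 2)
    (h3 : ∀ x : ↥(chevE6.group F), orderOf x = 3 → 3 * 2 ^ 36 ≤ cG x)
    (h5 : ∀ x : ↥(chevE6.group F), orderOf x = 5 → 2 ^ 40 ≤ cG x) {H N : Subgroup ↥(chevE6.group F)} {T : Type}
    [Group T] {e : N ≃* (Fin 1 → T)} (h : EPS H N e) (hT : IsoTits T) : False := by
  have hfin : Finite ↥(chevE6.group F) := Nat.finite_of_card_ne_zero (by rw [card_e6 hF]; norm_num)
  refine tits_kill h hT h3 h5 (fun x hx => le_trans (by norm_num) (e6_c13 hF x hx)) ?_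
  rw [card_e6 hF]
  norm_num

end Cfsg.Agent.H948.EPX
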