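import Cfsg.Agent.H476.TF.RowFour
import Cfsg.Agent.H631.TitsD.Data
import Cfsg.Agent.H235.TitsRow

/-!
# S5745, `T` the Tits group, `k = 1`: `E_π` with the exact numbers of elements of order 3 and 5 (helper948)
-/

set_option autoImplicit false
set_option linter.unusedSectionVars false

namespace Cfsg.Agent.H948.EPX

open Subgroup Cfsg Cfsg.Lie Cfsg.Agent.H209.EPX Cfsg.Agent.H284 Cfsg.Agent.H742.EX Cfsg.Agent.H476.TF

variable {G : Type*} [Group G] [Finite G] {H N : Subgroup G} {T : Type} [Group T] {e : N ≃* (Fin 1 → T)}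

theorem mem_N_of (h : EPS H N e) (hT : IsoTits T) {r : ℕ} (hr : Odd r) {x : G} (hx : x ∈ H) (ho : orderOf x = r) :
    x ∈ N := by
  let e' : N ≃* T := e.trans (MulEquiv.funUnique (Fin 1) T)
  have hN : Nat.card N = 17971200 := by rw [Nat.card_congr e'.toEquiv, card_tits hT]
  let N' : Subgroup H := N.subgroupOf H
  have hnorm : N'.Normal := ⟨fun n hn g => h.nrm g g.2 n hn⟩
  have hN' : Nat.card N' = 17971200 := by
    rw [Nat.card_congr (Subgroup.subgroupOfEquivOfLe h.le).toEquiv, hN]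
  have h1 := N'.card_mul_index
  have h2 := dvd_H h hT
  rw [← h1, hN'] at h2
  have h3 : N'.index ∣ 2 := by
    have h4 : 17971200 * N'.index ∣ 17971200 * 2 := h2.trans (by norm_num)
    exact Nat.dvd_of_mul_dvd_mul_left (by norm_num) h4
  have h5 : (⟨x, hx⟩ : H) ^ N'.index ∈ N' := Subgroup.pow_index_mem N' _
  have h6 : (⟨x, hx⟩ : H) ^ 2 ∈ N' := by
    obtain ⟨k, hk⟩ := h3
    rw [hk, pow_mul]
    exact N'.pow_mem h5 k
  have h7 : x ^ 2 ∈ N := h6
  obtain ⟨k, hk⟩ := hr
  have h8 : x = (x ^ 2) ^ (k + 1) := by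
    rw [← pow_mul]
    have : 2 * (k + 1) = r + 1 := by omega
    rw [this, pow_succ, ← ho, pow_orderOf_eq_one, one_mul]
  rw [h8]
  exact N.pow_mem h7 _

theorem el_le (h : EPS H N e) (hT : IsoTits T) {r n m : ℕ} (hr : Odd r)
    (hconj : ∀ x y : T, orderOf x = r → orderOf y = r → IsConj x y)
    (hcent : ∀ y : T, orderOf y = r → Nat.card (centralizer ({y} : Set T)) = n) (hn : 0 < n)
    (hm : n * m = 17971200) : (el H r).card ≤ m := by
  classical
  let e' : N ≃* T := e.trans (MulEquiv.funUnique (Fin 1) T)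
  have hfT : Finite T := Finite.of_equiv N e'.toEquiv
  rcases (el H r).eq_empty_or_nonempty with h0 | ⟨x0, hx0⟩
  · rw [h0]; simp
  have hmem : ∀ x ∈ el H r, x ∈ N := fun x hx => mem_N_of h hT hr (mem_el.1 hx).1 (mem_el.1 hx).2
  have hord : ∀ x (hx : x ∈ el H r), orderOf (e' ⟨x, hmem x hx⟩) = r := by
    intro x hx
    rw [MulEquiv.orderOf_eq, Subgroup.orderOf_mk]
    exact (mem_el.1 hx).2
  have hc : cG (e' ⟨x0, hmem x0 hx0⟩) = m := by
    have h1 := card_G (e' ⟨x0, hmem x0 hx0⟩)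
    have h4 : Nat.card {g : T // g⁻¹ * (e' ⟨x0, hmem x0 hx0⟩) * g = e' ⟨x0, hmem x0 hx0⟩} = n := by
      rw [← hcent _ (hord x0 hx0)]
      refine Nat.card_congr (Equiv.subtypeEquivRight fun g => ?_)
      rw [mem_centralizer_singleton_iff, mul_assoc, inv_mul_eq_iff_eq_mul, eq_comm]
    rw [h4, card_tits hT, ← hm, mul_comm n] at h1
    exact (Nat.eq_of_mul_eq_mul_right hn h1).symm
  have h1 : (el H r).card = Nat.card (el H r) := by rw [Nat.card_eq_fintype_card, Fintype.card_coe]
  rw [h1, ← hc]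
  refine Nat.card_le_card_of_injective (fun x : el H r =>
    (⟨e' ⟨x.1, hmem x.1 x.2⟩, hconj _ _ (hord x0 hx0) (hord x.1 x.2)⟩ : {y : T // IsConj (e' ⟨x0, hmem x0 hx0⟩) y})) ?_
  intro a b hab
  have h2 := e'.injective (congrArg Subtype.val hab)
  exact Subtype.ext (congrArg (fun t : N => (t : G)) h2)

/-- **The kill.** -/
theorem tits_kill (h : EPS H N e) (hT : IsoTits T) (h3 : ∀ x : G, orderOf x = 3 → 3 * 2 ^ 36 ≤ cG x)
    (h5 : ∀ x : G, orderOf x = 5 → 2 ^ 40 ≤ cG x) (h13 : ∀ x : G, orderOf x = 13 → 2 ^ 52 ≤ cG x)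
    (hG2 : 35942400 * 2 < Nat.card G) : False := by
  have hfT : Finite T := Finite.of_equiv N (e.trans (MulEquiv.funUnique (Fin 1) T)).toEquiv
  have D := Cfsg.Agent.H631.TitsD.td_of hT
  have F := Cfsg.Agent.H235.TitsRow.facts hT
  have hH : Nat.card H ≤ 35942400 := Nat.le_of_dvd (by norm_num) (dvd_H h hT)
  have hM : ∀ g ∉ H, ∃ r ∈ ({3, 5, 13} : Finset ℕ), r ∣ Nat.card (H ⊓ cj g H : Subgroup G) := by
    intro g hg
    obtain ⟨r, hr, hd⟩ := EPS.hM_two h (noC_tits hT) g hg
    exact ⟨r, primeFactors_H h hT hr, hd⟩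
  have hp : ∀ r ∈ ({3, 5, 13} : Finset ℕ), r.Prime := by
    intro r hr
    simp only [Finset.mem_insert, Finset.mem_singleton] at hr
    rcases hr with rfl | rfl | rfl <;> norm_num
  let Nn : ℕ → ℕ := fun r => if r = 3 then 166400 else if r = 5 then 359424 else 35942400
  let cc : ℕ → ℕ := fun r => if r = 3 then 3 * 2 ^ 36 else if r = 5 then 2 ^ 40 else 2 ^ 52
  have key := e_pi_crude H {3, 5, 13} hp hM Nn cc
    (by
      intro r hr
      simp only [Finset.mem_insert, Finset.mem_singleton] at hr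
      rcases hr with rfl | rfl | rfl
      · exact el_le h hT (m := 166400) (by decide) D.conj3 D.c3 (by norm_num) (by norm_num)
      · exact el_le h hT (m := 359424) (by decide) F.one D.c5 (by norm_num) (by norm_num)
      · refine le_trans ?_ hH
        have h1 : (el H 13).card = Nat.card (el H 13) := by rw [Nat.card_eq_fintype_card, Fintype.card_coe]
        rw [h1]
        refine Nat.card_le_card_of_injective (fun x : el H 13 => (⟨x.1, (mem_el.1 x.2).1⟩ : H)) ?_
        intro a b hab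
        exact Subtype.ext (congrArg (fun t : H => (t : G)) hab))
    (by
      intro r _
      simp only [cc]
      split_ifs <;> positivity)
    (by
      intro r hr x _ hx
      simp only [Finset.mem_insert, Finset.mem_singleton] at hr
      rcases hr with rfl | rfl | rfl
      · exact h3 x hx
      · exact h5 x hx
      · exact h13 x hx)
  have hsum : ∑ r ∈ ({3, 5, 13} : Finset ℕ), (((Nn r : ℕ) : ℚ) ^ 2 / (((r : ℚ) - 1) * ((cc r : ℕ) : ℚ))) ≤ 1 / 2 := by
    rw [Finset.sum_insert (by norm_num), Finset.sum_insert (by norm_num), Finset.sum_singleton]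
    norm_num [Nn, cc]
  have h3' : (2 : ℚ) < H.index := by
    have h4 : 2 < H.index := by
      by_contra hle
      push Not at hle
      have h5 := H.card_mul_index
      have h6 : Nat.card H * H.index ≤ 35942400 * 2 := Nat.mul_le_mul hH hle
      omega
    exact_mod_cast h4
  have h4 : (H.index : ℚ) * ∑ r ∈ ({3, 5, 13} : Finset ℕ), (((Nn r : ℕ) : ℚ) ^ 2 / (((r : ℚ) - 1) * ((cc r : ℕ) : ℚ))) ≤
      H.index * (1 / 2) := mul_le_mul_of_nonneg_left hsum (by linarith)
  have h5' := key.trans h4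
  linarith

end Cfsg.Agent.H948.EPX
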